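import Cfsg.Agent.H705.Imc.Perm
import Cfsg.Agent.H852.IMMcL
import Cfsg.Agent.H94.IMCLoc
import Cfsg.Agent.H52.FourMcL
import Cfsg.Agent.Leech.HSList
import Cfsg.Agent.SporadicStructure.M24Frame

/-!
# The row `McL` of S4526 (helper705)

* the permutation character of degree 275 is `1 + 22 + 252` (index prime to 3);
* the permutation character of degree 2025 is `1 + 22 + 252 + 1750`, and `1750 = 2 * 5 ^ 3 * 7` has 5-defect zero.
-/

set_option autoImplicit false

namespace Cfsg.Agent.H705.Imc.McL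

open MulAction Cfsg Cfsg.Agent.H713 Cfsg.Agent.Characters.Core
open Cfsg.Agent.Leech.Co0Elts Cfsg.Agent.Leech.Basic Cfsg.Agent.SporadicRecognition.RankThree
  Cfsg.Agent.SporadicRecognition.TwoEmb Cfsg.Agent.SporadicRecognition.HSRank
  Cfsg.Agent.SporadicRecognition.HSParam Cfsg.Agent.SporadicRecognition.RankThreeOf
  Cfsg.Agent.SporadicRecognition.McLAssemble
open Cfsg.Agent.H713.Spor Cfsg.Agent.H713.Spor.RankThree
open Cfsg.Agent.H419.LeechIrr Cfsg.Agent.H419.LeechFix Cfsg.Agent.H665.NoPQ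
open Cfsg.Agent.Blocks.Basic (irr_one_eq_charDegree charDegree_pos)
open Cfsg.Agent.H852.IMMcL (Pts pts_inv sub_four univ_four exists_fourth)
open Cfsg.Agent.H593.IMFrame (Sub perm frame)
open Cfsg.Agent.H625.SylConst

universe u

/-! ### the two sets -/

/-- the 275 points -/
def XS (u v : ↥leechLattice) : Set ↥leechLattice := {x : ↥leechLattice | sqNorm (x : GolayPt → ℤ) = 32 ∧
    sqNorm ((u - x) : GolayPt → ℤ) = 32 ∧ dotInt (v : GolayPt → ℤ) (x : GolayPt → ℤ) = 16}

theorem xs_inv (u v : ↥leechLattice) : ∀ g ∈ K u v, ∀ x ∈ XS u v, g • x ∈ XS u v := by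
  rintro g ⟨hgu, hgv⟩ x ⟨hx1, hx2, hx3⟩
  refine ⟨?_, ?_, ?_⟩
  · rw [sqNorm_smul]; exact hx1
  · have h3 := sqNorm_smul g (u - x)
    have h4 : g • (u - x) = u - g • x := by
      rw [sub_eq_add_neg, smul_add_co0 g u (-x), smul_neg_co0 g x, show g • u = u from hgu,
        ← sub_eq_add_neg]
    rw [h4] at h3
    exact h3.trans hx2
  · have := dotInt_smul g v x
    rw [show g • v = v from hgv] at this
    rw [this]; exact hx3

/-- the set of 275 points: transitive of rank at most 3 -/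
theorem xs_facts :
    letI := act (K (-Spor.leechV) Spor.leechU) (XS (-Spor.leechV) Spor.leechU) (xs_inv _ _)
    Nat.card ↥(XS (-Spor.leechV) Spor.leechU) = 275 ∧
      IsPretransitive ↥(K (-Spor.leechV) Spor.leechU) ↥(XS (-Spor.leechV) Spor.leechU) ∧
      Nat.card (Quotient (orbitRel ↥(K (-Spor.leechV) Spor.leechU)
        (↥(XS (-Spor.leechV) Spor.leechU) × ↥(XS (-Spor.leechV) Spor.leechU)))) ≤ 3 := by
  classical
  obtain ⟨h1, h2⟩ := Cfsg.Agent.S1580.result (-Spor.leechV) Spor.leechU norm_negV ⟨norm_U, norm_sub⟩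
  have hS := fun x hx => Cfsg.Agent.S1581.result (-Spor.leechV) Spor.leechU x norm_negV ⟨norm_U, norm_sub⟩ hx
  set u : ↥leechLattice := -Spor.leechV with hu
  set v : ↥leechLattice := Spor.leechU with hv
  set X : Set ↥leechLattice := XS u v with hXdef
  change X.ncard = 275 at h1
  change ∀ x ∈ X, _ at hS
  have hX : ∀ g ∈ K u v, ∀ x ∈ X, g • x ∈ X := xs_inv u v
  obtain ⟨x0, hx0⟩ : X.Nonempty := by
    rw [Set.nonempty_iff_ne_empty]
    intro h
    rw [h, Set.ncard_empty] at h1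
    norm_num at h1
  have hfinX : X.Finite := Set.finite_of_ncard_pos (by rw [h1]; norm_num)
  obtain ⟨h3, h4, h5⟩ := hS x0 hx0
  have hx00 : dotInt (x0 : GolayPt → ℤ) (x0 : GolayPt → ℤ) = 32 := by
    rw [← hx0.1]
    exact Finset.sum_congr rfl fun i _ => (sq _).symm
  have hdich : ∀ y ∈ X, y ≠ x0 → dotInt (x0 : GolayPt → ℤ) (y : GolayPt → ℤ) = 8 ∨
      dotInt (x0 : GolayPt → ℤ) (y : GolayPt → ℤ) = 16 := by
    intro y hy hne
    set S8 : Set ↥leechLattice := {y | y ∈ X ∧ dotInt (x0 : GolayPt → ℤ) (y : GolayPt → ℤ) = 8} with hS8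
    set S16 : Set ↥leechLattice := {y | y ∈ X ∧ y ≠ x0 ∧ dotInt (x0 : GolayPt → ℤ) (y : GolayPt → ℤ) = 16} with hS16
    have f8 : S8.Finite := hfinX.subset fun y hy => hy.1
    have f16 : S16.Finite := hfinX.subset fun y hy => hy.1
    have hd : Disjoint S8 S16 := by
      rw [Set.disjoint_left]
      rintro z hz hz'
      have e1 := hz.2
      have e2 := hz'.2.2
      omega
    have hd' : x0 ∉ S8 ∪ S16 := by
      rintro (hz | hz)
      · have e1 := hz.2
        omega
      · exact hz.2.1 rfl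
    have hU : insert x0 (S8 ∪ S16) = X := by
      apply Set.eq_of_subset_of_ncard_le _ _ hfinX
      · rintro z (rfl | hz | hz)
        · exact hx0
        · exact hz.1
        · exact hz.1
      · rw [Set.ncard_insert_of_notMem hd' (f8.union f16), Set.ncard_union_eq hd f8 f16, h1]
        change S8.ncard = 112 at h3
        change S16.ncard = 162 at h4
        rw [h3, h4]
    have hy' : y ∈ insert x0 (S8 ∪ S16) := by rw [hU]; exact hy
    rcases hy' with h6 | h6 | h6
    · exact absurd h6 hne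
    · exact Or.inl h6.2
    · exact Or.inr h6.2.2
  let _ := act (K u v) X hX
  obtain ⟨b, c, hr⟩ := exists_isRankThree (K u v) X hX (k := 112) (l := 162) (by rw [h1]) (by norm_num) (by norm_num)
    (by norm_num) ⟨x0, hx0⟩ (fun y => dotInt (x0 : GolayPt → ℤ) (y : GolayPt → ℤ) = 8)
    (by
      intro x hx x' hx'
      obtain ⟨g, hg1, hg2, hg3⟩ := h2 x hx x' hx'
      exact ⟨g, ⟨hg1, hg2⟩, hg3⟩)
    (by
      intro g hg hg0 y hy
      have := dotInt_smul g x0 y
      rw [show g • x0 = x0 from hg0] at this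
      rw [this]; exact hy)
    (by
      intro h
      have h7 : dotInt (x0 : GolayPt → ℤ) (x0 : GolayPt → ℤ) = 8 := h
      omega)
    h3
    (by
      rw [← h4]
      congr 1
      ext y
      constructor
      · rintro ⟨hy, hne, h8⟩
        refine ⟨hy, hne, ?_⟩
        rcases hdich y hy hne with h9 | h9
        · exact absurd h9 h8
        · exact h9
      · rintro ⟨hy, hne, h8⟩
        refine ⟨hy, hne, ?_⟩
        intro h9
        have h9' : dotInt (x0 : GolayPt → ℤ) (y : GolayPt → ℤ) = 8 := h9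
        omega)
    (by
      intro y hy y' hy' hne hne' h
      have h10 : dotInt (x0 : GolayPt → ℤ) (y : GolayPt → ℤ) = dotInt (x0 : GolayPt → ℤ) (y' : GolayPt → ℤ) := by
        have h' : dotInt (x0 : GolayPt → ℤ) (y : GolayPt → ℤ) = 8 ↔ dotInt (x0 : GolayPt → ℤ) (y' : GolayPt → ℤ) = 8 := h
        rcases hdich y hy hne with h11 | h11 <;> rcases hdich y' hy' hne' with h12 | h12 <;> omega
      obtain ⟨g, hg1, hg2, hg3, hg4⟩ := h5 y hy y' hy' hne hne' h10
      exact ⟨g, ⟨hg1, hg2⟩, hg3, hg4⟩)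
  have : Finite ↥X := hfinX.to_subtype
  exact ⟨by rw [Nat.card_coe_set_eq, h1], hr.trans, RankThree.card_orbitals hr⟩

theorem hK : K (-Spor.leechV) Spor.leechU = K Spor.leechU (-(Spor.leechV + Spor.leechU)) := by
  rw [← k_neg, k_eq']

/-- the 2025 points -/
abbrev YS : Set ↥leechLattice := Pts Spor.leechU (-(Spor.leechV + Spor.leechU))

theorem ys_inv : ∀ g ∈ K (-Spor.leechV) Spor.leechU, ∀ x ∈ YS, g • x ∈ YS := by
  rw [hK]
  exact pts_inv _ _

theorem sub_four' {v w : ↥leechLattice} (hv : sqNorm (v : GolayPt → ℤ) = 32)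
    (hw : sqNorm (w : GolayPt → ℤ) = 32) (hvw : dotInt (v : GolayPt → ℤ) (w : GolayPt → ℤ) = -8)
    (H : Subgroup ↥Co0) (hH : H = K v w) (hinv : ∀ g ∈ H, ∀ x ∈ Pts v w, g • x ∈ Pts v w) :
    letI := act H (Pts v w) hinv
    Nat.card ↥(Pts v w) = 2025 ∧
    ∃ (a : ↥(Pts v w)) (b : Fin 4 → ↥(Pts v w)), Sub ↥H ↥(Pts v w) a b ![1, 330, 462, 1232] := by
  subst hH
  exact sub_four hv hw hvw

/-! ### vectors -/

/-- `4` at `∞` and `i` -/
def vx (i : ZMod 23) : GolayPt → ℤ := fun p => if p = none ∨ p = some i then 4 else 0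

theorem vx_one_mem : vx 1 ∈ leechLattice :=
  AddSubgroup.subset_closure (Spor.mem_leechSet_of_const_mod_four (vx 1) 0 0 (by decide) (by decide) (by decide))

theorem vx_two_mem : vx 2 ∈ leechLattice :=
  AddSubgroup.subset_closure (Spor.mem_leechSet_of_const_mod_four (vx 2) 0 0 (by decide) (by decide) (by decide))

/-- an octad avoiding `∞` and `0` -/
def oct : Finset GolayPt := {some 1, some 3, some 14, some 15, some 16, some 17, some 18, some 21}

theorem oct_eq : oct = Cfsg.Agent.SporadicA.GolayBase.fin 2605066 := by decide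

theorem oct_mem : oct ∈ octads := by
  rw [oct_eq]
  exact Cfsg.Agent.SporadicStructure.M24Frame.fin_mem_octads_of_isOct (by decide +kernel)

theorem x1_mem : (⟨vx 1, vx_one_mem⟩ : ↥leechLattice) ∈ XS (-Spor.leechV) Spor.leechU := by
  refine ⟨?_, ?_, ?_⟩
  · show sqNorm (vx 1) = 32
    decide
  · show sqNorm (-Spor.vecV - vx 1) = 32
    decide
  · show dotInt Spor.vecU (vx 1) = 16
    decide

theorem x2_mem : (⟨vx 2, vx_two_mem⟩ : ↥leechLattice) ∈ XS (-Spor.leechV) Spor.leechU := by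
  refine ⟨?_, ?_, ?_⟩
  · show sqNorm (vx 2) = 32
    decide
  · show sqNorm (-Spor.vecV - vx 2) = 32
    decide
  · show dotInt Spor.vecU (vx 2) = 16
    decide

theorem y0_mem : Spor.leechU' ∈ YS := by
  refine ⟨?_, ?_, ?_⟩
  · show sqNorm Spor.vecU' = 32
    decide
  · show dotInt Spor.vecU Spor.vecU' = 0
    decide
  · show dotInt (-(Spor.vecV + Spor.vecU)) Spor.vecU' = 16
    decide

open Cfsg.Agent.Leech.HSList (vC vC_mem) in
theorem y1_mem : (⟨vC oct, vC_mem oct_mem⟩ : ↥leechLattice) ∈ YS := by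
  refine ⟨?_, ?_, ?_⟩
  · show sqNorm (vC oct) = 32
    decide
  · show dotInt Spor.vecU (vC oct) = 0
    decide
  · show dotInt (-(Spor.vecV + Spor.vecU)) (vC oct) = 16
    decide

open Cfsg.Agent.Leech.HSList (vC vC_mem) in
theorem dots : dotInt (vx 1) Spor.vecU' = 16 ∧ dotInt (vx 1) (vC oct) = 8 ∧ dotInt (vx 2) (vC oct) = 0 := by
  refine ⟨?_, ?_, ?_⟩ <;> decide

/-! ### characters -/

theorem sum_inner {G : Type u} [Group G] [Fintype G] {n : ℕ} (θ : IrrCharacter G) {ψ : Fin n → IrrCharacter G}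
    (hψ : Function.Injective ψ) :
    (∃ i, ψ i = θ) ∧ ∑ i, classInner (θ : G → ℂ) (ψ i : G → ℂ) = 1 ∨
      ∑ i, classInner (θ : G → ℂ) (ψ i : G → ℂ) = 0 := by
  classical
  by_cases h : ∃ i, ψ i = θ
  · left
    refine ⟨h, ?_⟩
    obtain ⟨i, rfl⟩ := h
    rw [Finset.sum_eq_single i]
    · exact classInner_irr_self (ψ i).2
    · intro j _ hj
      exact classInner_irr_ne (ψ i).2 (ψ j).2 (fun h => hj (hψ (Subtype.ext h)).symm)
    · simp
  · right
    refine Finset.sum_eq_zero fun i _ => ?_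
    exact classInner_irr_ne θ.2 (ψ i).2 (fun h1 => h ⟨i, (Subtype.ext h1).symm⟩)

/-- The three constituents of `X` are constituents of `Y`. -/
theorem all_mem {G : Type u} [Group G] [Fintype G] {X Y : Type*} [MulAction G X] [Finite X] [MulAction G Y] [Finite Y]
    {μ χ : IrrCharacter G} (hX : pc G X = 1 + (μ : G → ℂ) + (χ : G → ℂ)) {n : ℕ} {ψ : Fin n → IrrCharacter G}
    (hψ : Function.Injective ψ) (hY : ∀ g, pc G Y g = ∑ i, (ψ i : G → ℂ) g)
    (h3 : 3 ≤ Nat.card (Quotient (orbitRel G (X × Y)))) :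
    (∃ i, (ψ i : G → ℂ) = 1) ∧ (∃ i, ψ i = μ) ∧ (∃ i, ψ i = χ) := by
  classical
  have h1 := inner_pc_prod (G := G) X Y
  have h2 : pc G Y = ∑ i, (ψ i : G → ℂ) := by
    funext g
    rw [hY, Finset.sum_apply]
  rw [hX, h2, classInner_add_left, classInner_add_left, classInner_sum_right, classInner_sum_right,
    classInner_sum_right] at h1
  rcases sum_inner (⟨1, isIrr_one⟩ : IrrCharacter G) hψ with ⟨⟨i, hi⟩, e1⟩ | e1
  · rcases sum_inner μ hψ with ⟨hμ, e2⟩ | e2
    · rcases sum_inner χ hψ with ⟨hχ, e3⟩ | e3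
      · exact ⟨⟨i, congrArg Subtype.val hi⟩, hμ, hχ⟩
      · exfalso
        change ∑ i, classInner (1 : G → ℂ) (ψ i : G → ℂ) = 1 at e1
        rw [e1, e2, e3] at h1
        have h4 : ((2 : ℕ) : ℂ) = (Nat.card (Quotient (orbitRel G (X × Y))) : ℂ) := by
          rw [← h1]; norm_num
        have h5 : 2 = Nat.card (Quotient (orbitRel G (X × Y))) := by exact_mod_cast h4
        omega
    · exfalso
      change ∑ i, classInner (1 : G → ℂ) (ψ i : G → ℂ) = 1 at e1
      rcases sum_inner χ hψ with ⟨-, e3⟩ | e3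
      · rw [e1, e2, e3] at h1
        have h4 : ((2 : ℕ) : ℂ) = (Nat.card (Quotient (orbitRel G (X × Y))) : ℂ) := by
          rw [← h1]; norm_num
        have h5 : 2 = Nat.card (Quotient (orbitRel G (X × Y))) := by exact_mod_cast h4
        omega
      · rw [e1, e2, e3] at h1
        have h4 : ((1 : ℕ) : ℂ) = (Nat.card (Quotient (orbitRel G (X × Y))) : ℂ) := by
          rw [← h1]; norm_num
        have h5 : 1 = Nat.card (Quotient (orbitRel G (X × Y))) := by exact_mod_cast h4
        omega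
  · exfalso
    change ∑ i, classInner (1 : G → ℂ) (ψ i : G → ℂ) = 0 at e1
    rcases sum_inner μ hψ with ⟨-, e2⟩ | e2 <;> rcases sum_inner χ hψ with ⟨-, e3⟩ | e3
    · rw [e1, e2, e3] at h1
      have h4 : ((2 : ℕ) : ℂ) = (Nat.card (Quotient (orbitRel G (X × Y))) : ℂ) := by
        rw [← h1]; norm_num
      have h5 : 2 = Nat.card (Quotient (orbitRel G (X × Y))) := by exact_mod_cast h4
      omega
    · rw [e1, e2, e3] at h1
      have h4 : ((1 : ℕ) : ℂ) = (Nat.card (Quotient (orbitRel G (X × Y))) : ℂ) := by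
        rw [← h1]; norm_num
      have h5 : 1 = Nat.card (Quotient (orbitRel G (X × Y))) := by exact_mod_cast h4
      omega
    · rw [e1, e2, e3] at h1
      have h4 : ((1 : ℕ) : ℂ) = (Nat.card (Quotient (orbitRel G (X × Y))) : ℂ) := by
        rw [← h1]; norm_num
      have h5 : 1 = Nat.card (Quotient (orbitRel G (X × Y))) := by exact_mod_cast h4
      omega
    · rw [e1, e2, e3] at h1
      have h4 : ((0 : ℕ) : ℂ) = (Nat.card (Quotient (orbitRel G (X × Y))) : ℂ) := by
        rw [← h1]; norm_num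
      have h5 : 0 = Nat.card (Quotient (orbitRel G (X × Y))) := by exact_mod_cast h4
      omega

theorem main :
    (∃ χ : IrrCharacter ↥(K (-Spor.leechV) Spor.leechU), charDegree (χ : ↥(K (-Spor.leechV) Spor.leechU) → ℂ) = 1750) ∧
    ∀ (_ : Fact (Nat.Prime 3)), IMC 3 ↥(K (-Spor.leechV) Spor.leechU) := by
  classical
  obtain ⟨hs, hc⟩ := Cfsg.Agent.H713.Spor.McL.facts
  have hfin : Finite ↥(K (-Spor.leechV) Spor.leechU) := Nat.finite_of_card_ne_zero (by rw [hc]; norm_num)
  have := Fintype.ofFinite ↥(K (-Spor.leechV) Spor.leechU)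
  let actX := act (K (-Spor.leechV) Spor.leechU) (XS (-Spor.leechV) Spor.leechU) (xs_inv _ _)
  let actY := act (K (-Spor.leechV) Spor.leechU) YS ys_inv
  obtain ⟨hcX, htr, hr⟩ := xs_facts
  have hfX : Finite ↥(XS (-Spor.leechV) Spor.leechU) := Nat.finite_of_card_ne_zero (by rw [hcX]; norm_num)
  obtain ⟨hcY, a, b, hsub⟩ := sub_four' norm_U norm_W dot_UW (K (-Spor.leechV) Spor.leechU) hK ys_inv
  have hfY : Finite ↥YS := Nat.finite_of_card_ne_zero (by rw [hcY]; norm_num)
  obtain ⟨μ, hμ1, hμ⟩ := Cfsg.Agent.H713.Spor.McL.exists_22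
  have hdeg := HS.degree_of_lchi hμ
  have hμd : charDegree (μ : ↥(K (-Spor.leechV) Spor.leechU) → ℂ) = 22 := by omega
  have : Nonempty ↥(XS (-Spor.leechV) Spor.leechU) := ⟨⟨_, x1_mem⟩⟩
  have hne := RankThree.inner_ne (K (-Spor.leechV) Spor.leechU).subtype μ hμ1 hμ
    ↥(XS (-Spor.leechV) Spor.leechU) (fun x => x.1) (fun g x => rfl) (by
      intro x
      by_contra hcon
      push Not at hcon
      have hsub : ∀ y : ↥(XS (-Spor.leechV) Spor.leechU), y = x := by
        intro y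
        obtain ⟨g, hg⟩ := exists_smul_eq ↥(K (-Spor.leechV) Spor.leechU) x y
        rw [← hg]
        exact Subtype.ext (hcon g)
      have h6 : Nat.card ↥(XS (-Spor.leechV) Spor.leechU) = 1 := by
        rw [Nat.card_eq_one_iff_exists]
        exact ⟨x, hsub⟩
      omega)
  obtain ⟨χ, hχ, hpc⟩ := irr_other' (G := ↥(K (-Spor.leechV) Spor.leechU)) ↥(XS (-Spor.leechV) Spor.leechU)
    hr μ hμ1 hne (by rw [hμd, hcX]; norm_num)
  have hχd : charDegree (χ : ↥(K (-Spor.leechV) Spor.leechU) → ℂ) = 252 := by rw [hχ, hcX, hμd]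
  refine ⟨?_, ?_⟩
  · have := Fintype.ofFinite ↥YS
    obtain ⟨ψ, D, hinj, hperm, hsum, -, -⟩ := frame hsub
    have h3 : 3 ≤ Nat.card (Quotient (orbitRel ↥(K (-Spor.leechV) Spor.leechU)
        (↥(XS (-Spor.leechV) Spor.leechU) × ↥YS))) := by
      refine le_orbits (n := 3) (fun z : ↥(XS (-Spor.leechV) Spor.leechU) × ↥YS =>
        dotInt ((z.1 : ↥leechLattice) : GolayPt → ℤ) ((z.2 : ↥leechLattice) : GolayPt → ℤ)) ?_
        ![(⟨_, x1_mem⟩, ⟨_, y0_mem⟩), (⟨_, x1_mem⟩, ⟨_, y1_mem⟩), (⟨_, x2_mem⟩, ⟨_, y1_mem⟩)] ?_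
      · rintro g ⟨x, y⟩
        exact dotInt_smul (g : ↥Co0) x y
      · intro i j hij
        obtain ⟨d1, d2, d3⟩ := dots
        have e1 : dotInt (((⟨vx 1, vx_one_mem⟩ : ↥leechLattice) : GolayPt → ℤ)) ((Spor.leechU' : ↥leechLattice) : GolayPt → ℤ) = 16 := d1
        fin_cases i <;> fin_cases j
        · rfl
        · exfalso
          have h : (16 : ℤ) = 8 := by rw [← d1, ← d2]; exact hij
          norm_num at h
        · exfalso
          have h : (16 : ℤ) = 0 := by rw [← d1, ← d3]; exact hij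
          norm_num at h
        · exfalso
          have h : (8 : ℤ) = 16 := by rw [← d1, ← d2]; exact hij
          norm_num at h
        · rfl
        · exfalso
          have h : (8 : ℤ) = 0 := by rw [← d2, ← d3]; exact hij
          norm_num at h
        · exfalso
          have h : (0 : ℤ) = 16 := by rw [← d1, ← d3]; exact hij
          norm_num at h
        · exfalso
          have h : (0 : ℤ) = 8 := by rw [← d2, ← d3]; exact hij
          norm_num at h
        · rfl
    obtain ⟨⟨i0, h0⟩, ⟨i1, h1⟩, ⟨i2, h2⟩⟩ := all_mem hpc hinj hperm h3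
    have d0 : charDegree (ψ i0 : ↥(K (-Spor.leechV) Spor.leechU) → ℂ) = 1 := by
      have h4 := irr_one_eq_charDegree (ψ i0).2
      rw [h0, Pi.one_apply] at h4
      rw [h0]
      exact_mod_cast h4.symm
    have d1 : charDegree (ψ i1 : ↥(K (-Spor.leechV) Spor.leechU) → ℂ) = 22 := by rw [h1, hμd]
    have d2 : charDegree (ψ i2 : ↥(K (-Spor.leechV) Spor.leechU) → ℂ) = 252 := by rw [h2, hχd]
    have n01 : i0 ≠ i1 := by rintro rfl; omega
    have n02 : i0 ≠ i2 := by rintro rfl; omega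
    have n12 : i1 ≠ i2 := by rintro rfl; omega
    obtain ⟨l, l0, l1, l2⟩ := exists_fourth i0 i1 i2 n01 n02 n12
    have hu := univ_four i0 i1 i2 l n01 n02 l0 n12 l1 l2
    refine ⟨ψ l, ?_⟩
    rw [hu, Finset.sum_insert (by simp [n01, n02, l0]), Finset.sum_insert (by simp [n12, l1]),
      Finset.sum_pair l2, d0, d1, d2, hcY] at hsum
    omega
  · intro _
    refine imc_of_inner ↥(XS (-Spor.leechV) Spor.leechU) (by rw [hcX]; norm_num) χ (by rw [hχd]; norm_num) ?_
    rw [hpc, classInner_add_left, classInner_add_left, classInner_irr_self χ.2]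
    have e1 : classInner (1 : ↥(K (-Spor.leechV) Spor.leechU) → ℂ) (χ : ↥(K (-Spor.leechV) Spor.leechU) → ℂ) = 0 := by
      refine classInner_irr_ne isIrr_one χ.2 fun h => ?_
      have h4 := irr_one_eq_charDegree χ.2
      rw [← h, Pi.one_apply, h, hχd] at h4
      norm_num at h4
    have e2 : classInner (μ : ↥(K (-Spor.leechV) Spor.leechU) → ℂ) (χ : ↥(K (-Spor.leechV) Spor.leechU) → ℂ) = 0 := by
      refine classInner_irr_ne μ.2 χ.2 fun h => ?_
      rw [h, hχd] at hμd
      norm_num at hμd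
    rw [e1, e2]
    norm_num

theorem imc_mcl {S : Type u} [Group S] [Finite S] (h : Cfsg.Spor.IsoMcL S) {p : ℕ} [hp : Fact p.Prime]
    (hd : p ∣ Nat.card S) : IMC p S := by
  have hc := Cfsg.Agent.NotCT.Orders.mcl h
  have hd' := hd
  rw [hc] at hd'
  have hm := Cfsg.Agent.H852.IMSuz.prime_cases' hp.out [2, 3, 5, 7, 11] (by decide) 7 hd' (by norm_num)
  simp only [List.mem_cons, List.not_mem_nil, or_false] at hm
  have hIM := Cfsg.Agent.H852.IMMcL.im_mcl h hd
  rcases hm with rfl | rfl | rfl | rfl | rfl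
  · exact H94.IMCLoc.imc_two_of_loc (H52.FourMcL.loc_McL h)
  · obtain ⟨e⟩ := h
    exact IMC.of_equiv (e.trans H713.Spor.McL.mclEquiv) (main.2 hp)
  · obtain ⟨e⟩ := h
    refine IMC.of_equiv (e.trans H713.Spor.McL.mclEquiv) ?_
    obtain ⟨χ, hχ⟩ := main.1
    have hcc := H713.Spor.McL.facts.2
    have hfin : Finite ↥(K (-Spor.leechV) Spor.leechU) := Nat.finite_of_card_ne_zero (by rw [hcc]; norm_num)
    refine IMC.of_defect_zero (by rw [hcc]; norm_num) χ ?_
    rw [hχ, hcc]
    have h11 : (898128000 : ℕ).factorization 5 = 3 := by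
      rw [show (898128000 : ℕ) = 5 ^ 3 * 7185024 by norm_num,
        Nat.factorization_mul (by norm_num) (by norm_num), Nat.factorization_pow, Finsupp.add_apply,
        Nat.factorization_eq_zero_of_not_dvd (n := 7185024) (p := 5) (by norm_num)]
      simp [Nat.Prime.factorization_self hp.out]
    rw [h11]
    norm_num
  · exact H794.Imc.imc_of_exact hd (by rw [hc]; norm_num) hIM
  · exact H794.Imc.imc_of_exact hd (by rw [hc]; norm_num) hIM

end Cfsg.Agent.H705.Imc.McL
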