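import Cfsg.Agent.H794.ImcTools
import Cfsg.Agent.H852.IMHS
import Cfsg.Agent.H94.IMCLoc
import Cfsg.Agent.H287.Blk.HS
import Cfsg.Agent.NotCT.Orders

/-!
# The row `HS` of S4526 (helper705)

The Itô-Michler rows of helper852 with the local criterion in the form `IMC`.
-/

set_option autoImplicit false
open Cfsg

namespace Cfsg.Agent.H705.Imc.HS

open Cfsg.Agent.H33 Cfsg.Agent.H852.IMPerm Cfsg.Agent.H852.IMLocal Subgroup Equiv
open Cfsg.Agent.SporadicA.PermTab Cfsg.Agent.HN.HS100
open Cfsg.Agent.H852 Cfsg.Agent.H852.IMHS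
open Cfsg.Agent.H625.SylConst

universe u

/-- An element `x` of order `p` with `IM p C(x)`, `p ^ 3 ∤ |C(x)|`, `p ^ 2 ∣ |G|`. -/
theorem imc_of_cent {G : Type u} [Group G] [Finite G] {p : ℕ} [hp : Fact p.Prime] (x : G) (hx : orderOf x = p)
    (h : IM p (Subgroup.centralizer ({x} : Set G)))
    (hc : (Nat.card (Subgroup.centralizer ({x} : Set G))).factorization p ≤ 2) (hG : p ^ 2 ∣ Nat.card G) :
    IMC p G := by
  have hcent : Subgroup.centralizer ((Subgroup.zpowers x : Subgroup G) : Set G) = Subgroup.centralizer {x} := by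
    rw [Subgroup.zpowers_eq_closure, Subgroup.centralizer_closure]
  have hD : Nat.card (Subgroup.zpowers x) = p := by rw [Nat.card_zpowers, hx]
  rw [← hcent] at h hc
  obtain ⟨θ, hθ⟩ := h
  have hle : Subgroup.zpowers x ≤ Subgroup.centralizer ((Subgroup.zpowers x : Subgroup G) : Set G) := by
    rw [hcent, Subgroup.zpowers_le, Subgroup.mem_centralizer_singleton_iff]
  refine Cfsg.Agent.H794.Imc.imc_of_local (Subgroup.zpowers x) (IsPGroup.of_card (n := 1) (by rw [hD, pow_one])) ?_ θ ?_ ?_
  · have h1 := (Subgroup.zpowers x).card_mul_index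
    rw [hD] at h1
    rw [← h1, pow_two] at hG
    exact (Nat.mul_dvd_mul_iff_left hp.out.pos).1 hG
  · rw [inf_eq_left.2 hle, hD, hp.out.factorization_self]
    have h0 := (Cfsg.Agent.Blocks.Basic.charDegree_pos θ.2).ne'
    have h1 := (hp.out.dvd_iff_one_le_factorization h0).1 hθ
    exact hc.trans (Nat.add_le_add_right h1 1)
  · intro g hg hk
    refine Subgroup.mem_sup_right ?_
    rw [hcent, Subgroup.mem_centralizer_singleton_iff]
    exact mul_inv_eq_iff_eq_mul.1 (mem_cent_of_normalizer hx hg hk)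

section three

theorem imc_three [h3f : Fact (Nat.Prime 3)] : IMC 3 Spor.HS := by
  obtain ⟨⟨e⟩, -⟩ := Cfsg.Agent.HN.AutHS.nonempty_Q
  have : Finite ↥Spor.HS := Finite.of_equiv _ e.toEquiv
  refine IMC.of_equiv e.symm ?_
  have hQ : Nat.card Q = 44352000 := Cfsg.Agent.HN.AutBound.card_Q
  obtain ⟨x, hx⟩ := exists_el in3'
  obtain ⟨a, ha⟩ := exists_el ina
  obtain ⟨b, hb⟩ := exists_el inb
  have hxo : orderOf x = 3 := orderOf_of hx (by decide +kernel) 0 (by decide +kernel)
  have hax : a * x = x * a := commute_of ha hx (by decide +kernel)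
  have hbx : b * x = x * b := commute_of hb hx (by decide +kernel)
  refine imc_of_cent x hxo ?_ ?_ (by rw [hQ]; norm_num)
  · let _ := act5 hx
    let a' : centralizer ({x} : Set Q) := ⟨a, mem_centralizer_singleton_iff.2 hax⟩
    let b' : centralizer ({x} : Set Q) := ⟨b, mem_centralizer_singleton_iff.2 hbx⟩
    set ψ := MulAction.toPermHom (centralizer ({x} : Set Q)) (Fin 5) with hψ
    have hlab : ∀ {P : ℕ} {g : Q}, (∀ i : Fin 100, ((g : Perm (Fin 100)) i : ℕ) = lk P i) → ∀ t : Fin 5,
        (labF ((g : Perm (Fin 100)) (rep t)) : ℕ) = lk tlab (lk P (rep t)) % 5 := by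
      intro P g hg t
      show lk tlab ((g : Perm (Fin 100)) (rep t) : Fin 100) % 5 = _
      rw [hg]
    have h1 : ψ a' = finRotate 5 := by
      refine Equiv.ext fun t => Fin.ext ?_
      show (labF ((a : Perm (Fin 100)) (rep t)) : ℕ) = _
      rw [hlab ha]
      revert t
      decide +kernel
    have h2 : ψ b' = swap 3 4 := by
      refine Equiv.ext fun t => Fin.ext ?_
      show (labF ((b : Perm (Fin 100)) (rep t)) : ℕ) = _
      rw [hlab hb]
      revert t
      decide +kernel
    have h3 : Function.Surjective ψ := by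
      rw [← MonoidHom.range_eq_top, eq_top_iff, ← Equiv.Perm.closure_prime_cycle_swap (σ := finRotate 5)
        (τ := swap 3 4) (by simp; norm_num) isCycle_finRotate support_finRotate ⟨3, 4, by decide, rfl⟩,
        closure_le]
      rintro g (rfl | hg)
      · exact ⟨a', h1⟩
      · rw [Set.mem_singleton_iff] at hg
        rw [hg]
        exact ⟨b', h2⟩
    refine IM.of_surjective ψ h3 ?_
    exact im_four (X := Fin 5) (Equiv.Perm.isMultiplyPretransitive (Fin 5) 4) (by simp) (by simp)
  · have h1 : Nat.card (centralizer ({x} : Set Q)) ∣ 44352000 := by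
      rw [← hQ]
      exact card_subgroup_dvd_card _
    have h2 := (Nat.factorization_le_iff_dvd Nat.card_pos.ne' (by norm_num)).2 h1 3
    have h3 : (44352000 : ℕ).factorization 3 = 2 := by
      rw [show (44352000 : ℕ) = 3 ^ 2 * 4928000 by norm_num,
        Nat.factorization_mul (by norm_num) (by norm_num), Nat.factorization_pow]
      simp [Nat.Prime.factorization_self Nat.prime_three, Nat.factorization_eq_zero_of_not_dvd]
    exact h2.trans h3.le


end three

section five

theorem imc_five [h5f : Fact (Nat.Prime 5)] : IMC 5 Spor.HS := by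
  obtain ⟨⟨e⟩, -⟩ := Cfsg.Agent.HN.AutHS.nonempty_Q
  have : Finite ↥Spor.HS := Finite.of_equiv _ e.toEquiv
  refine IMC.of_equiv e.symm ?_
  have hQ : Nat.card Q = 44352000 := Cfsg.Agent.HN.AutBound.card_Q
  have : Fact (Nat.Prime 3) := ⟨by norm_num⟩
  have : Fact (Nat.Prime 2) := ⟨by norm_num⟩
  obtain ⟨x, hx⟩ := exists_el in5x
  obtain ⟨a, ha⟩ := exists_el inua
  obtain ⟨b, hb⟩ := exists_el inub
  obtain ⟨s, hs⟩ := exists_el inus
  obtain ⟨t, ht⟩ := exists_el inut
  have hxo : orderOf x = 5 := orderOf_of hx (by decide +kernel) 0 (by decide +kernel)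
  have hao : orderOf a = 5 := orderOf_of ha (by decide +kernel) 0 (by decide +kernel)
  have hbo : orderOf b = 5 := orderOf_of hb (by decide +kernel) 0 (by decide +kernel)
  have hso : orderOf s = 3 := orderOf_of hs (by decide +kernel) 0 (by decide +kernel)
  have hto : orderOf t = 2 := orderOf_of ht (by decide +kernel) 0 (by decide +kernel)
  have hax : a * x = x * a := commute_of ha hx (by decide +kernel)
  have hbx : b * x = x * b := commute_of hb hx (by decide +kernel)
  have hsx : s * x = x * s := commute_of hs hx (by decide +kernel)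
  have htx : t * x = x * t := commute_of ht hx (by decide +kernel)
  set C := centralizer ({x} : Set Q) with hC
  let x' : C := ⟨x, mem_centralizer_singleton_iff.2 rfl⟩
  let a' : C := ⟨a, mem_centralizer_singleton_iff.2 hax⟩
  let b' : C := ⟨b, mem_centralizer_singleton_iff.2 hbx⟩
  let s' : C := ⟨s, mem_centralizer_singleton_iff.2 hsx⟩
  let t' : C := ⟨t, mem_centralizer_singleton_iff.2 htx⟩
  have hx'o : orderOf x' = 5 := by rw [← Subgroup.orderOf_coe]; exact hxo
  have ha'o : orderOf a' = 5 := by rw [← Subgroup.orderOf_coe]; exact hao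
  have hb'o : orderOf b' = 5 := by rw [← Subgroup.orderOf_coe]; exact hbo
  have h2 : 2 ∣ Nat.card C := by
    have h := orderOf_dvd_natCard t'
    rwa [← Subgroup.orderOf_coe, show ((t' : C) : Q) = t from rfl, hto] at h
  have h3 : 3 ∣ Nat.card C := by
    have h := orderOf_dvd_natCard s'
    rwa [← Subgroup.orderOf_coe, show ((s' : C) : Q) = s from rfl, hso] at h
  -- the central subgroup
  have hcen : ∀ c : C, c * x' = x' * c := fun c => Subtype.ext (mem_centralizer_singleton_iff.1 c.2)
  have hN : (zpowers x').Normal := by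
    refine ⟨fun n hn g => ?_⟩
    obtain ⟨k, rfl⟩ := mem_zpowers_iff.1 hn
    have h : g * x' ^ k = x' ^ k * g := ((Commute.zpow_right (hcen g) k) : Commute g (x' ^ k))
    rw [h, mul_inv_cancel_right]
    exact ⟨k, rfl⟩
  have hna : a' ∉ zpowers x' := by
    intro h
    -- then `a` would commute with `b`
    obtain ⟨k, hk⟩ := mem_zpowers_iff.1 h
    have h4 : Commute b' a' := by
      rw [← hk]
      exact Commute.zpow_right (hcen b') k
    have h5 : b * a = a * b := congrArg (fun z : C => (z : Q)) (h4 : b' * a' = a' * b')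
    have h6 : ((b : Perm (Fin 100)) ((a : Perm (Fin 100)) (0 : Fin 100)) : ℕ) = (a : Perm (Fin 100)) ((b : Perm (Fin 100)) (0 : Fin 100)) :=
      congrArg (fun z : Q => (((z : Perm (Fin 100)) (0 : Fin 100) : Fin 100) : ℕ)) h5
    rw [hb, ha, ha, hb] at h6
    revert h6
    decide +kernel
  have h5 : 25 ∣ Nat.card C := by
    have h4 : Nat.card C = Nat.card (C ⧸ zpowers x') * Nat.card (zpowers x') :=
      Subgroup.card_eq_card_quotient_mul_card_subgroup _
    rw [Nat.card_zpowers, hx'o] at h4
    have h6 : orderOf (QuotientGroup.mk' (zpowers x') a') = 5 := by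
      refine orderOf_eq_prime ?_ ?_
      · rw [← map_pow, ← ha'o, pow_orderOf_eq_one, map_one]
      · intro h
        exact hna ((QuotientGroup.eq_one_iff a').1 h)
    have h7 := orderOf_dvd_natCard (QuotientGroup.mk' (zpowers x') a')
    rw [h6] at h7
    rw [h4]
    exact Nat.mul_dvd_mul h7 dvd_rfl
  have hle : Nat.card C ≤ 600 := card_le_600 hx
  obtain ⟨-, hfac, hsyl⟩ := arith Nat.card_pos hle h2 h3 h5
  refine imc_of_cent x hxo ?_ (by rw [← hC, hfac]) (by rw [hQ]; norm_num)
  refine im_of_sylow (card_sylow_of ?_ hsyl)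
  intro h
  have hss : Subsingleton (Sylow 5 C) := (Nat.card_eq_one_iff_unique.1 h).1
  obtain ⟨P⟩ : Nonempty (Sylow 5 C) := inferInstance
  have hPc : Nat.card P = 5 ^ 2 := by
    rw [P.card_eq_multiplicity, hfac]
  have hmem : ∀ g : C, orderOf g = 5 → g ∈ (P : Subgroup C) := by
    intro g hg
    have h4 : IsPGroup 5 (zpowers g) := IsPGroup.of_card (n := 1) (by rw [Nat.card_zpowers, hg, pow_one])
    obtain ⟨R, hR⟩ := h4.exists_le_sylow
    rw [Subsingleton.elim P R]
    exact hR (mem_zpowers g)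
  have hcomm := IsPGroup.commutative_of_card_eq_prime_sq hPc
  have h4 : (⟨b', hmem b' hb'o⟩ : P) * ⟨a', hmem a' ha'o⟩ = ⟨a', hmem a' ha'o⟩ * ⟨b', hmem b' hb'o⟩ := hcomm _ _
  have h5 : b * a = a * b := congrArg (fun z : P => ((z : C) : Q)) h4
  have h6 : ((b : Perm (Fin 100)) ((a : Perm (Fin 100)) (0 : Fin 100)) : ℕ) = (a : Perm (Fin 100)) ((b : Perm (Fin 100)) (0 : Fin 100)) :=
    congrArg (fun z : Q => (((z : Perm (Fin 100)) (0 : Fin 100) : Fin 100) : ℕ)) h5
  rw [hb, ha, ha, hb] at h6
  revert h6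
  decide +kernel


end five

theorem imc_hs {S : Type u} [Group S] [Finite S] (h : Cfsg.Spor.IsoHS S) {p : ℕ} [hp : Fact p.Prime]
    (hd : p ∣ Nat.card S) : IMC p S := by
  have hc := Cfsg.Agent.NotCT.Orders.hs h
  have hd' := hd
  rw [hc] at hd'
  have hm := IMSuz.prime_cases' hp.out [2, 3, 5, 7, 11] (by decide) 9 hd' (by norm_num)
  simp only [List.mem_cons, List.not_mem_nil, or_false] at hm
  have hIM := IMHS.im_hs h hd
  rcases hm with rfl | rfl | rfl | rfl | rfl
  · exact H94.IMCLoc.imc_two_of_loc (H287.Blk.loc_HS h)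
  · obtain ⟨e⟩ := h
    exact IMC.of_equiv e imc_three
  · obtain ⟨e⟩ := h
    exact IMC.of_equiv e imc_five
  · exact H794.Imc.imc_of_exact hd (by rw [hc]; norm_num) hIM
  · exact H794.Imc.imc_of_exact hd (by rw [hc]; norm_num) hIM

end Cfsg.Agent.H705.Imc.HS
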